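import Groth.Prelude.Def_AssocGrMod
import Groth.Prelude.Def_GrMap
import Mathlib

/-! Successive approximation along associated graded rings and modules. -/

universe u v

open Polynomial

namespace Groth.Agent.AdicGrLib

section Map

variable {A : Type u} {B : Type v} [CommRing A] [CommRing B] {φ : A →+* B}
  {𝓕 : FiltBl.IdealFiltration A} {𝓖 : FiltBl.IdealFiltration B}

theorem map_injective (h : AssocGr.IsFiltHom φ 𝓕 𝓖)
    (hi : ∀ n, ∀ a ∈ 𝓕.F n, φ a ∈ 𝓖.F (n + 1) → a ∈ 𝓕.F (n + 1)) :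
    Function.Injective (AssocGr.map h) := by
  rw [injective_iff_map_eq_zero]
  intro x hx
  obtain ⟨f, rfl⟩ := AssocGr.mkG_surjective 𝓕 x
  rw [AssocGr.map_mkG, AssocGr.mkG_eq_zero_iff] at hx
  rw [AssocGr.mkG_eq_zero_iff]
  intro n
  have := hx n
  rw [AssocGr.coe_reesMap, Polynomial.coeff_map] at this
  exact hi n _ (f.2 n) this

theorem map_surjective (h : AssocGr.IsFiltHom φ 𝓕 𝓖)
    (hs : ∀ n, ∀ b ∈ 𝓖.F n, ∃ a ∈ 𝓕.F n, φ a - b ∈ 𝓖.F (n + 1)) :
    Function.Surjective (AssocGr.map h) := by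
  intro y
  obtain ⟨g, rfl⟩ := AssocGr.mkG_surjective 𝓖 y
  have : ∀ n, ∃ x, AssocGr.map h x = AssocGr.mkG 𝓖 (AssocGr.term 𝓖 g n) := by
    intro n
    obtain ⟨a, ha, hab⟩ := hs n _ (g.2 n)
    refine ⟨(AssocGr.inDeg 𝓕 n ⟨a, ha⟩ : AssocGr.GrRing 𝓕), ?_⟩
    rw [AssocGr.map_inDeg, AssocGr.mkG_term, Subtype.coe_inj, ← sub_eq_zero, ← map_sub,
      AssocGr.inDeg_eq_zero_iff]
    exact hab
  choose x hx using this
  refine ⟨∑ n ∈ (g : B[X]).support, x n, ?_⟩
  rw [map_sum, Finset.sum_congr rfl fun n _ => hx n, ← map_sum, AssocGr.sum_term]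

theorem exists_of_map_surjective (h : AssocGr.IsFiltHom φ 𝓕 𝓖)
    (hs : Function.Surjective (AssocGr.map h)) {n : ℕ} {b : B} (hb : b ∈ 𝓖.F n) :
    ∃ a ∈ 𝓕.F n, φ a - b ∈ 𝓖.F (n + 1) := by
  obtain ⟨x, hx⟩ := hs (AssocGr.inDeg 𝓖 n ⟨b, hb⟩ : AssocGr.GrRing 𝓖)
  obtain ⟨f, rfl⟩ := AssocGr.mkG_surjective 𝓕 x
  rw [AssocGr.map_mkG, AssocGr.coe_inDeg, ← sub_eq_zero, ← map_sub, AssocGr.mkG_eq_zero_iff] at hx
  refine ⟨(f : A[X]).coeff n, f.2 n, ?_⟩
  have := hx n
  rwa [AddSubgroupClass.coe_sub, Polynomial.coeff_sub, AssocGr.coe_reesMap, Polynomial.coeff_map,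
    AssocGr.coe_coe_monom, Polynomial.coeff_monomial, if_pos rfl] at this

end Map

section Cauchy

variable {A : Type u} [CommRing A] {I : Ideal A}

theorem exists_limit [IsPrecomplete I A] (D : ℕ) (s : ℕ → A)
    (hs : ∀ m, s (m + 1) - s m ∈ I ^ (m - D)) : ∃ L, ∀ m, s (m + D) - L ∈ I ^ m := by
  have htop : ∀ m, (I ^ m • ⊤ : Submodule A A) = I ^ m := fun m => by rw [smul_eq_mul, Ideal.mul_top]
  have key : ∀ m k, s (m + D) - s (m + k + D) ∈ I ^ m := by
    intro m k
    induction k with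
    | zero => simp
    | succ k ih =>
      have h1 : s (m + k + D + 1) - s (m + k + D) ∈ I ^ m := by
        refine Ideal.pow_le_pow_right ?_ (hs (m + k + D))
        omega
      have := sub_mem ih h1
      rw [show m + (k + 1) + D = m + k + D + 1 by omega]
      convert this using 1
      ring
  obtain ⟨L, hL⟩ := IsPrecomplete.prec ‹IsPrecomplete I A› (f := fun m => s (m + D)) fun {m n} hmn => by
    rw [SModEq.sub_mem, htop]
    obtain ⟨k, rfl⟩ := Nat.exists_eq_add_of_le hmn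
    exact key m k
  refine ⟨L, fun m => ?_⟩
  have := hL m
  rwa [SModEq.sub_mem, htop] at this

end Cauchy

section Mod

variable {A : Type u} [CommRing A] {I : Ideal A} {M : Type u} [AddCommGroup M] [Module A M]
  (F : I.Filtration M) {k : ℕ} (d : Fin k → ℕ) (x : Fin k → M)

theorem N_le {m n : ℕ} (h : m ≤ n) : F.N n ≤ F.N m := F.antitone h

theorem sum_smul_mem (hx : ∀ i, x i ∈ F.N (d i)) {n : ℕ} {c : Fin k → A}
    (hc : ∀ i, c i ∈ I ^ (n - d i)) : ∑ i, c i • x i ∈ F.N n :=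
  Submodule.sum_mem _ fun i _ => N_le F (by omega)
    (F.pow_smul_le (n - d i) (d i) (Submodule.smul_mem_smul (hc i) (hx i)))

theorem exists_step {n : ℕ} {y : M} (hy : y ∈ F.N n) (hx : ∀ i, x i ∈ F.N (d i))
    (hspan : (AssocGr.inDegM F n ⟨y, hy⟩ : AssocGr.GrMod F) ∈
      Submodule.span (AssocGr.GrRing (FiltBl.IdealFiltration.adic I))
        (Set.range fun i => (AssocGr.inDegM F (d i) ⟨x i, hx i⟩ : AssocGr.GrMod F))) :
    ∃ c : Fin k → A, (∀ i, c i ∈ I ^ (n - d i)) ∧ y - ∑ i, c i • x i ∈ F.N (n + 1) := by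
  rw [Submodule.mem_span_range_iff_exists_fun] at hspan
  obtain ⟨g, hg⟩ := hspan
  choose f hf using fun i => AssocGr.mkG_surjective (FiltBl.IdealFiltration.adic I) (g i)
  let c : Fin k → A := fun i => if d i ≤ n then ((f i : A[X])).coeff (n - d i) else 0
  refine ⟨c, fun i => ?_, ?_⟩
  · simp only [c]
    split_ifs
    · exact (f i).2 _
    · exact zero_mem _
  · have h0 : AssocGr.mkGM F (AssocGr.monomM F n ⟨y, hy⟩ -
        ∑ i, f i • AssocGr.monomM F (d i) ⟨x i, hx i⟩) = 0 := by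
      rw [map_sub, map_sum]
      have : ∀ i, AssocGr.mkGM F (f i • AssocGr.monomM F (d i) ⟨x i, hx i⟩) =
          g i • (AssocGr.inDegM F (d i) ⟨x i, hx i⟩ : AssocGr.GrMod F) := fun i => by
        rw [← hf i, AssocGr.coe_inDegM, AssocGr.mkG_smul_mkGM]
      rw [Finset.sum_congr rfl fun i _ => this i, hg, AssocGr.coe_inDegM, sub_self]
    rw [AssocGr.mkGM_eq_zero_iff] at h0
    have h1 := h0 n
    rw [← AssocGr.ReesM.coeffHom_apply, map_sub, map_sum] at h1
    simp only [AssocGr.ReesM.coeffHom_apply, AssocGr.ReesM.coeff_smul, AssocGr.ReesM.coeff_monomM,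
      if_true] at h1
    convert h1 using 3 with i
    simp only [c, smul_ite, smul_zero, ite_smul, zero_smul]
    split_ifs with h
    · rw [Finset.sum_eq_single (n - d i, d i)]
      · simp
      · rintro ⟨a, b⟩ hab hne
        rw [if_neg]
        intro hb
        apply hne
        replace hab : a + b = n := Finset.HasAntidiagonal.mem_antidiagonal.mp hab
        simp only [Prod.mk.injEq] at *
        exact ⟨by omega, hb.symm⟩
      · intro hn
        exact absurd (Finset.HasAntidiagonal.mem_antidiagonal.mpr (show n - d i + d i = n by omega)) hn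
    · rw [Finset.sum_eq_zero]
      rintro ⟨a, b⟩ hab
      rw [if_neg]
      intro hb
      replace hab : a + b = n := Finset.HasAntidiagonal.mem_antidiagonal.mp hab
      simp only at hab hb
      omega

variable [IsPrecomplete I A]

theorem exists_eq_sum (hsep : ⨅ n, F.N n = ⊥) (hx : ∀ i, x i ∈ F.N (d i)) (P : Submodule A M)
    (hxP : ∀ i, x i ∈ P)
    (step : ∀ n, ∀ y ∈ P, y ∈ F.N n →
      ∃ c : Fin k → A, (∀ i, c i ∈ I ^ (n - d i)) ∧ y - ∑ i, c i • x i ∈ F.N (n + 1))
    {n : ℕ} {y : M} (hyP : y ∈ P) (hy : y ∈ F.N n) :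
    ∃ c : Fin k → A, (∀ i, c i ∈ I ^ (n - d i)) ∧ y = ∑ i, c i • x i := by
  classical
  -- `C m` approximates up to level `n + m`
  let Good : ℕ → (Fin k → A) → Prop := fun m C => (∀ i, C i ∈ I ^ (n - d i)) ∧ y - ∑ i, C i • x i ∈ F.N (n + m)
  have hnext : ∀ m C, Good m C → ∃ C', Good (m + 1) C' ∧ ∀ i, C' i - C i ∈ I ^ (n + m - d i) := by
    rintro m C ⟨hC, hr⟩
    obtain ⟨c, hc, hcr⟩ := step (n + m) _ (P.sub_mem hyP (P.sum_mem fun i _ => P.smul_mem _ (hxP i))) hr
    refine ⟨C + c, ⟨fun i => add_mem (hC i) (Ideal.pow_le_pow_right (by omega) (hc i)), ?_⟩, fun i => ?_⟩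
    · rw [← add_assoc]
      convert hcr using 1
      simp only [Pi.add_apply, add_smul, Finset.sum_add_distrib]
      abel
    · simpa using hc i
  choose! nxt hnxt₁ hnxt₂ using hnext
  let C : ℕ → Fin k → A := fun m => Nat.rec (fun _ => 0) (fun j Cj => nxt j Cj) m
  have hC : ∀ m, Good m (C m) := by
    intro m
    induction m with
    | zero => exact ⟨fun i => zero_mem _, by simpa [C] using hy⟩
    | succ m ih => exact hnxt₁ m _ ih
  let D := ∑ i, d i
  have hD : ∀ i, d i ≤ D := fun i => Finset.single_le_sum (f := d) (fun _ _ => Nat.zero_le _) (Finset.mem_univ i)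
  choose L hL using fun i => exists_limit (I := I) D (fun m => C m i) fun m =>
    Ideal.pow_le_pow_right (show m - D ≤ n + m - d i by have := hD i; omega) (hnxt₂ m (C m) (hC m) i)
  refine ⟨L, fun i => ?_, ?_⟩
  · have h1 := hL i n
    have h2 := (hC (n + D)).1 i
    have := sub_mem h2 (Ideal.pow_le_pow_right (show n - d i ≤ n by omega) h1)
    simpa using this
  · rw [← sub_eq_zero, ← Submodule.mem_bot A, ← hsep, Submodule.mem_iInf]
    intro m
    have h1 := (hC (m + D)).2
    have h2 : ∑ i, (C (m + D) i - L i) • x i ∈ F.N m := sum_smul_mem F d x hx fun i =>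
      Ideal.pow_le_pow_right (by omega) (hL i m)
    have := add_mem (N_le F (by omega) h1) h2
    convert this using 1
    simp only [sub_smul, Finset.sum_sub_distrib]
    abel

theorem mem_span_of_forall_mem_sup (hsep : ⨅ n, F.N n = ⊥) (hx : ∀ i, x i ∈ F.N (d i))
    (P : Submodule A M) (hxP : ∀ i, x i ∈ P)
    (step : ∀ n, ∀ y ∈ P, y ∈ F.N n →
      ∃ c : Fin k → A, (∀ i, c i ∈ I ^ (n - d i)) ∧ y - ∑ i, c i • x i ∈ F.N (n + 1))
    {y : M} (hy : ∀ n, y ∈ P ⊔ F.N n) : y ∈ P := by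
  classical
  have := fun n => Submodule.mem_sup.mp (hy n)
  choose p hp r hr hpr using this
  have : ∀ m, ∃ c : Fin k → A, (∀ i, c i ∈ I ^ (m - d i)) ∧ p (m + 1) - p m = ∑ i, c i • x i := by
    intro m
    refine exists_eq_sum F d x hsep hx P hxP step (P.sub_mem (hp _) (hp _)) ?_
    have h : p (m + 1) - p m = r m - r (m + 1) := by
      have e : p m + r m = p (m + 1) + r (m + 1) := (hpr m).trans (hpr (m + 1)).symm
      linear_combination (norm := abel) -(1 : ℤ) • e
    rw [h]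
    exact sub_mem (hr m) (N_le F (Nat.le_succ m) (hr (m + 1)))
  choose c hc hcs using this
  let D := ∑ i, d i
  have hD : ∀ i, d i ≤ D := fun i => Finset.single_le_sum (f := d) (fun _ _ => Nat.zero_le _) (Finset.mem_univ i)
  choose L hL using fun i => exists_limit (I := I) D (fun m => ∑ j ∈ Finset.range m, c j i) fun m => by
    rw [Finset.sum_range_succ, add_sub_cancel_left]
    exact Ideal.pow_le_pow_right (show m - D ≤ m - d i by have := hD i; omega) (hc m i)
  have hp' : ∀ m, p m = p 0 + ∑ i, (∑ j ∈ Finset.range m, c j i) • x i := by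
    intro m
    induction m with
    | zero => simp
    | succ m ih =>
      simp only [Finset.sum_range_succ, add_smul, Finset.sum_add_distrib]
      rw [← hcs m, ih]
      abel
  have : y = p 0 + ∑ i, L i • x i := by
    rw [← sub_eq_zero, ← Submodule.mem_bot A, ← hsep, Submodule.mem_iInf]
    intro m
    have h2 : ∑ i, ((∑ j ∈ Finset.range (m + D), c j i) - L i) • x i ∈ F.N m :=
      sum_smul_mem F d x hx fun i => Ideal.pow_le_pow_right (by omega) (hL i m)
    have := add_mem (N_le F (show m ≤ m + D by omega) (hr (m + D))) h2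
    convert this using 1
    rw [← hpr (m + D), hp' (m + D)]
    simp only [sub_smul, Finset.sum_sub_distrib]
    abel
  rw [this]
  exact P.add_mem (hp 0) (P.sum_mem fun i _ => P.smul_mem _ (hxP i))

end Mod

end Groth.Agent.AdicGrLib
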